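import Groth.Agent.CyclicCoverLib.Regular
import Groth.Agent.CAlgH3.RegularLocal
import Mathlib.RingTheory.AdjoinRoot
import Mathlib.RingTheory.IntegralClosure.IntegrallyClosed
import Mathlib.RingTheory.Localization.Away.Basic

/-!
# The normalized cyclic cover `B[t^i f^(-⌊iα/N⌋)]`
-/

set_option autoImplicit false
set_option maxHeartbeats 800000

universe u

open Polynomial

namespace Groth.Agent.CyclicCoverLib

variable {B : Type u} [CommRing B]

/-- Monomials `T^i F^j` for units `T`, `F`. -/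
noncomputable def mono {K : Type u} [CommRing K] (T F : Kˣ) (i j : ℤ) : K := ((T ^ i * F ^ j : Kˣ) : K)

section Mono

variable {K : Type u} [CommRing K] (T F : Kˣ)

theorem mono_mul (i j i' j' : ℤ) : mono T F i j * mono T F i' j' = mono T F (i + i') (j + j') := by
  simp only [mono, ← Units.val_mul]
  rw [zpow_add, zpow_add, mul_mul_mul_comm]

theorem mono_zero : mono T F 0 0 = 1 := by simp [mono]

theorem mono_pow (i j : ℤ) (n : ℕ) : mono T F i j ^ n = mono T F (i * n) (j * n) := by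
  simp only [mono, ← Units.val_pow_eq_pow_val]
  rw [mul_pow, ← zpow_natCast, ← zpow_natCast, ← zpow_mul, ← zpow_mul]

theorem mono_one_zero : mono T F 1 0 = T := by simp [mono]

theorem mono_zero_one : mono T F 0 1 = F := by simp [mono]

end Mono

variable (N α : ℕ)

/-- The normal form of a monomial of nonnegative weight. -/
theorem exists_mono_eq {K : Type u} [CommRing K] [Algebra B K] {T F : Kˣ} {u : Bˣ} {f : B} (hN : 0 < N)
    (hT : (T : K) ^ N = algebraMap B K (u * f ^ α)) (hF : (F : K) = algebraMap B K f) {i j : ℤ}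
    (h : 0 ≤ i * α + j * N) :
    ∃ (b : B) (l : Fin N), mono T F i j = b • mono T F (l : ℕ) (-(((l : ℕ) * α / N : ℕ) : ℤ)) := by
  let l : ℕ := (i % (N : ℤ)).toNat
  have hN' : (0 : ℤ) < N := by exact_mod_cast hN
  have hl0 : (l : ℤ) = i % N := Int.toNat_of_nonneg (Int.emod_nonneg _ hN'.ne')
  have hl : l < N := by
    have := Int.emod_lt_of_pos i hN'
    rw [← hl0] at this; exact_mod_cast this
  let q := i / (N : ℤ)
  have hi : i = q * N + l := by rw [hl0]; exact (Int.ediv_mul_add_emod i N).symm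
  let c : ℤ := q * α + j + ((l * α / N : ℕ) : ℤ)
  have hc : 0 ≤ c := by
    have h1 : ((l * α : ℕ) : ℤ) < (((l * α / N : ℕ) : ℤ) + 1) * N := by
      exact_mod_cast (Nat.lt_div_mul_add (a := l * α) hN).trans_eq (by ring)
    push_cast at h1
    by_contra hlt
    have h2 : c + 1 ≤ 0 := by omega
    have h3 : 0 ≤ (-(c + 1)) * N := mul_nonneg (by omega) hN'.le
    rw [hi] at h
    simp only [c] at h3
    push_cast at h3
    nlinarith
  obtain ⟨c', hc'⟩ : ∃ c' : ℕ, c = c' := ⟨c.toNat, (Int.toNat_of_nonneg hc).symm⟩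
  let U : Kˣ := Units.map (algebraMap B K : B →* K) u
  have hTN : T ^ (N : ℤ) = U * F ^ (α : ℤ) := Units.ext (by
    simp only [zpow_natCast, Units.val_mul, Units.val_pow_eq_pow_val, hT, map_mul, map_pow, U, Units.coe_map,
      MonoidHom.coe_coe, hF])
  refine ⟨((u ^ q : Bˣ) : B) * f ^ c', ⟨l, hl⟩, ?_⟩
  have key : T ^ i * F ^ j = (U ^ q * F ^ c) * (T ^ (l : ℤ) * F ^ (-((l * α / N : ℕ) : ℤ))) := by
    rw [hi, zpow_add, mul_comm q, zpow_mul, hTN, mul_zpow, ← zpow_mul, mul_assoc (U ^ q), mul_assoc (U ^ q),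
      mul_assoc (U ^ q)]
    congr 1
    rw [mul_left_comm (F ^ c), ← zpow_add, mul_assoc, mul_left_comm (F ^ _), ← zpow_add]
    congr 2
    ring
  show ((T ^ i * F ^ j : Kˣ) : K) = _
  rw [key, Units.val_mul, Algebra.smul_def, hc']
  congr 1
  rw [Units.val_mul, map_mul, map_pow, ← hF, zpow_natCast, Units.val_pow_eq_pow_val]
  congr 1
  rw [← map_zpow]
  rfl

variable [IsDomain B] (u : Bˣ) (f : B)

/-- The equation of the cyclic cover. -/
noncomputable abbrev coverPoly : B[X] := X ^ N - C ((u : B) * f ^ α)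

/-- The cyclic cover away from the branch divisor. -/
abbrev CoverLoc := Localization.Away (algebraMap B (AdjoinRoot (coverPoly N α u f)) f)

variable {N α u f}

/-- The class of `t`. -/
noncomputable def root' : CoverLoc N α u f :=
  algebraMap (AdjoinRoot (coverPoly N α u f)) _ (AdjoinRoot.root _)

theorem root'_pow : (root' : CoverLoc N α u f) ^ N = algebraMap B _ (u * f ^ α) := by
  have h : (AdjoinRoot.root (coverPoly N α u f)) ^ N = algebraMap B _ ((u : B) * f ^ α) := by
    have := AdjoinRoot.eval₂_root (coverPoly N α u f)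
    rw [eval₂_sub, eval₂_X_pow, eval₂_C, sub_eq_zero] at this
    rw [this]; rfl
  rw [root', ← map_pow, h, ← IsScalarTower.algebraMap_apply]

theorem isUnit_f : IsUnit (algebraMap B (CoverLoc N α u f) f) := by
  rw [IsScalarTower.algebraMap_apply B (AdjoinRoot (coverPoly N α u f)) (CoverLoc N α u f)]
  exact IsLocalization.Away.algebraMap_isUnit _

theorem isUnit_root' (hN : 0 < N) : IsUnit (root' : CoverLoc N α u f) :=
  (isUnit_pow_iff hN.ne').1 (by rw [root'_pow, map_mul, map_pow]; exact ((u.isUnit.map _).mul (isUnit_f.pow α)))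

theorem injective_toLoc (hN : 0 < N) (hf : f ≠ 0) :
    Function.Injective (algebraMap (AdjoinRoot (coverPoly N α u f)) (CoverLoc N α u f)) := by
  refine IsLocalization.injective (M := Submonoid.powers (algebraMap B (AdjoinRoot (coverPoly N α u f)) f)) _ ?_
  rintro _ ⟨n, rfl⟩
  refine pow_mem (mem_nonZeroDivisors_iff_right.2 fun x hx => ?_) n
  let b := (AdjoinRoot.powerBasis' (monic_X_pow_sub_C ((u : B) * f ^ α) hN.ne')).basis
  refine b.repr.injective (Finsupp.ext fun i => ?_)
  rw [mul_comm, ← Algebra.smul_def] at hx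
  have := congrArg (fun v => b.repr v i) hx
  simp only [map_smul, map_zero, Finsupp.smul_apply, smul_eq_mul, Finsupp.zero_apply] at this
  rw [map_zero, Finsupp.zero_apply]
  exact (mul_eq_zero.1 this).resolve_left hf

/-- The generator `t^i f^(-⌊iα/N⌋)`. -/
noncomputable def gen (T F : (CoverLoc N α u f)ˣ) (i : Fin N) : CoverLoc N α u f :=
  mono T F (i : ℕ) (-(((i : ℕ) * α / N : ℕ) : ℤ))

/-- Multiplying elements outside a prime to move a congruence into a larger ideal. -/
theorem exists_mul_mem_trans {R : Type u} [CommRing R] {Q : Ideal R} [Q.IsPrime] {J K : Ideal R}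
    (h : ∀ y ∈ J, ∃ r ∉ Q, r * y ∈ K) {x : R} (hx : ∃ r ∉ Q, r * x ∈ J) : ∃ r ∉ Q, r * x ∈ K := by
  obtain ⟨r, hr, hrx⟩ := hx
  obtain ⟨r', hr', h'⟩ := h _ hrx
  exact ⟨r' * r, fun h => (Ideal.IsPrime.mem_or_mem ‹_› h).elim hr' hr, by rw [mul_assoc]; exact h'⟩

/-- The elements of `A` some multiple of which, by an element outside `Q`, lies in `K`. -/
theorem exists_mul_mem_sup {R : Type u} [CommRing R] {Q : Ideal R} [Q.IsPrime] {J J' K : Ideal R}
    (h : ∀ y ∈ J, ∃ r ∉ Q, r * y ∈ K) (h' : ∀ y ∈ J', ∃ r ∉ Q, r * y ∈ K) :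
    ∀ y ∈ J ⊔ J', ∃ r ∉ Q, r * y ∈ K := by
  intro y hy
  obtain ⟨a, ha, b, hb, rfl⟩ := Submodule.mem_sup.1 hy
  obtain ⟨r₁, h₁, ha⟩ := h a ha
  obtain ⟨r₂, h₂, hb⟩ := h' b hb
  refine ⟨r₁ * r₂, fun h => (Ideal.IsPrime.mem_or_mem ‹_› h).elim h₁ h₂, ?_⟩
  rw [mul_add]
  exact add_mem (by rw [mul_right_comm]; exact Ideal.mul_mem_right _ _ ha)
    (by rw [mul_assoc]; exact Ideal.mul_mem_left _ _ hb)

omit [IsDomain B] in
theorem exists_mul_mem_map {R : Type u} [CommRing R] [Algebra B R] {Q : Ideal R} [Q.IsPrime] {p : Ideal B}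
    [Q.LiesOver p] {K : Ideal R} (h : ∀ b ∈ p, ∃ r ∉ p, algebraMap B R (r * b) ∈ K) :
    ∀ y ∈ p.map (algebraMap B R), ∃ r ∉ Q, r * y ∈ K := by
  intro y hy
  induction hy using Submodule.span_induction with
  | mem y hy =>
    obtain ⟨b, hb, rfl⟩ := hy
    obtain ⟨r, hr, hrb⟩ := h b hb
    exact ⟨algebraMap B R r, fun h => hr ((Ideal.mem_of_liesOver Q p r).2 h), by rwa [← map_mul]⟩
  | zero => exact ⟨1, fun h => ‹Q.IsPrime›.ne_top ((Ideal.eq_top_iff_one _).2 h), by simp⟩
  | add y z _ _ hy hz =>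
    obtain ⟨r₁, h₁, hy⟩ := hy
    obtain ⟨r₂, h₂, hz⟩ := hz
    refine ⟨r₁ * r₂, fun h => (Ideal.IsPrime.mem_or_mem ‹_› h).elim h₁ h₂, ?_⟩
    rw [mul_add]
    exact add_mem (by rw [mul_right_comm]; exact Ideal.mul_mem_right _ _ hy)
      (by rw [mul_assoc]; exact Ideal.mul_mem_left _ _ hz)
  | smul c y _ hy =>
    obtain ⟨r, hr, hy⟩ := hy
    exact ⟨r, hr, by rw [smul_eq_mul, mul_left_comm]; exact Ideal.mul_mem_left _ _ hy⟩

variable (hN : 0 < N) (hf : f ≠ 0) {T F : (CoverLoc N α u f)ˣ} (hT : (T : CoverLoc N α u f) = root')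
  (hF : (F : CoverLoc N α u f) = algebraMap B _ f)

include hN hf hT hF

theorem linearIndependent_gen : LinearIndependent B (gen T F) := by
  rw [Fintype.linearIndependent_iff]
  intro g hg i
  let kk : Fin N → ℕ := fun i => (i : ℕ) * α / N
  have hk : ∀ i, kk i ≤ α := fun i => Nat.div_le_of_le_mul (Nat.mul_le_mul_right α i.2.le)
  have h1 : algebraMap (AdjoinRoot (coverPoly N α u f)) (CoverLoc N α u f)
      (∑ i, (g i * f ^ (α - kk i)) • AdjoinRoot.root (coverPoly N α u f) ^ (i : ℕ)) =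
      mono T F 0 α * ∑ i, g i • gen T F i := by
    rw [map_sum, Finset.mul_sum]
    refine Finset.sum_congr rfl fun i _ => ?_
    rw [Algebra.smul_def, map_mul, ← IsScalarTower.algebraMap_apply, map_pow (algebraMap _ _) (AdjoinRoot.root _),
      ← root', map_mul, map_pow, ← hT, ← hF, gen, Algebra.smul_def, mul_left_comm (mono T F 0 α), mono_mul,
      zero_add, mul_assoc]
    refine congrArg (_ * ·) ?_
    rw [← mono_zero_one T F, ← mono_one_zero T F, mono_pow, mono_pow, mono_mul]
    congr 1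
    · ring
    · have := hk i
      simp only [kk] at this ⊢
      omega
  rw [hg, mul_zero, map_eq_zero_iff _ (injective_toLoc hN hf)] at h1
  let pb := AdjoinRoot.powerBasis' (monic_X_pow_sub_C ((u : B) * f ^ α) hN.ne')
  have hdim : pb.dim = N := by
    simp only [pb, AdjoinRoot.powerBasis'_dim]
    exact natDegree_X_pow_sub_C
  have h2 := Fintype.linearIndependent_iff.1 pb.basis.linearIndependent
    (fun j => g (Fin.cast hdim j) * f ^ (α - kk (Fin.cast hdim j))) (by
      rw [← h1, ← (finCongr hdim).sum_comp]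
      refine Finset.sum_congr rfl fun j _ => ?_
      rw [PowerBasis.coe_basis]
      rfl) (Fin.cast hdim.symm i)
  exact (mul_eq_zero.1 h2).resolve_right (pow_ne_zero _ hf)

theorem mem_span_of_nonneg {i j : ℤ} (h : 0 ≤ i * α + j * N) :
    mono T F i j ∈ Submodule.span B (Set.range (gen T F)) := by
  obtain ⟨b, l, hb⟩ := exists_mono_eq N α (u := u) (f := f) hN (by rw [hT, root'_pow]) hF h
  rw [hb]
  exact Submodule.smul_mem _ _ (Submodule.subset_span ⟨l, rfl⟩)

omit hf hT hF in
theorem weight_gen (i : Fin N) : (0 : ℤ) ≤ ((i : ℕ) : ℤ) * α + (-(((i : ℕ) * α / N : ℕ) : ℤ)) * N := by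
  have h1 : (((i : ℕ) * α / N : ℕ) : ℤ) * N ≤ (((i : ℕ) * α : ℕ) : ℤ) := by
    exact_mod_cast Nat.div_mul_le_self _ _
  push_cast at h1 ⊢
  linarith

theorem toSubmodule_adjoin_gen :
    Subalgebra.toSubmodule (Algebra.adjoin B (Set.range (gen T F))) = Submodule.span B (Set.range (gen T F)) := by
  refine le_antisymm ?_ (Submodule.span_le.2 Algebra.subset_adjoin)
  let S := Submodule.span B (Set.range (gen T F))
  have h1 : (1 : CoverLoc N α u f) ∈ S := by
    rw [← mono_zero T F]
    exact mem_span_of_nonneg hN hf hT hF (by simp)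
  have hm : ∀ a b, a ∈ S → b ∈ S → a * b ∈ S := by
    intro a b ha hb
    induction ha, hb using Submodule.span_induction₂ with
    | mem_mem x y hx hy =>
      obtain ⟨i, rfl⟩ := hx
      obtain ⟨j, rfl⟩ := hy
      rw [gen, gen, mono_mul]
      refine mem_span_of_nonneg hN hf hT hF ?_
      have := weight_gen (α := α) hN i
      have := weight_gen (α := α) hN j
      linarith
    | zero_left _ _ => rw [zero_mul]; exact zero_mem _
    | zero_right _ _ => rw [mul_zero]; exact zero_mem _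
    | add_left x y z _ _ _ h₁ h₂ => rw [add_mul]; exact add_mem h₁ h₂
    | add_right x y z _ _ _ h₁ h₂ => rw [mul_add]; exact add_mem h₁ h₂
    | smul_left r x y _ _ h => rw [smul_mul_assoc]; exact Submodule.smul_mem _ _ h
    | smul_right r x y _ _ h => rw [mul_smul_comm]; exact Submodule.smul_mem _ _ h
  exact Algebra.adjoin_le (S := S.toSubalgebra h1 hm) Submodule.subset_span

variable (A : Subalgebra B (CoverLoc N α u f)) (hA : A = Algebra.adjoin B (Set.range (gen T F)))

include hA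

theorem mono_mem {i j : ℤ} (h : 0 ≤ i * α + j * N) : mono T F i j ∈ A := by
  rw [hA, ← Subalgebra.mem_toSubmodule, toSubmodule_adjoin_gen hN hf hT hF]
  exact mem_span_of_nonneg hN hf hT hF h

theorem span_eq : Submodule.span B (Set.range (gen T F)) = Subalgebra.toSubmodule A := by
  rw [hA, toSubmodule_adjoin_gen hN hf hT hF]

theorem free_and_finite : Module.Free B A ∧ Module.Finite B A := by
  let b := (Module.Basis.span (linearIndependent_gen hN hf hT hF)).map
    (LinearEquiv.ofEq _ _ (span_eq hN hf hT hF A hA))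
  exact ⟨Module.Free.of_basis (b.map (Subalgebra.toSubmoduleEquiv A)),
    Module.Finite.of_basis (b.map (Subalgebra.toSubmoduleEquiv A))⟩

theorem algebraMap_mem (x : AdjoinRoot (coverPoly N α u f)) : algebraMap _ (CoverLoc N α u f) x ∈ A := by
  obtain ⟨P, rfl⟩ := AdjoinRoot.mk_surjective x
  rw [← AdjoinRoot.aeval_eq, ← aeval_algebraMap_apply, ← root', ← hT]
  have hTA : (T : CoverLoc N α u f) ∈ A := by
    rw [← mono_one_zero T F]
    exact mono_mem hN hf hT hF A hA (by simp)
  rw [show (T : CoverLoc N α u f) = A.val ⟨_, hTA⟩ from rfl, aeval_algHom_apply]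
  exact Subtype.mem _

theorem exists_pow_mul (a : CoverLoc N α u f) : ∃ (n : ℕ) (P : B[X]),
    algebraMap B _ (f ^ n) * a = aeval (T : CoverLoc N α u f) P := by
  obtain ⟨n, x, hx⟩ := IsLocalization.Away.surj (algebraMap B (AdjoinRoot (coverPoly N α u f)) f) a
  obtain ⟨P, rfl⟩ := AdjoinRoot.mk_surjective x
  refine ⟨n, P, ?_⟩
  rw [map_pow, IsScalarTower.algebraMap_apply B (AdjoinRoot (coverPoly N α u f)) (CoverLoc N α u f),
    mul_comm, hx, ← AdjoinRoot.aeval_eq, ← aeval_algebraMap_apply, ← root', hT]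

omit hN hf hT hF hA in
theorem coe_aeval (P : B[X]) (x : A) : ((aeval x P : A) : CoverLoc N α u f) = aeval (x : CoverLoc N α u f) P :=
  (aeval_algHom_apply A.val x P).symm

section Primes

variable [IsNoetherianRing B]
  (hreg : ∀ (P : Ideal B) [P.IsPrime], IsRegularLocalRing (Localization.AtPrime P))
  (Q : Ideal A) [Q.IsPrime]

include hreg

theorem isRegular_of_notMem (hNu : IsUnit (N : B)) (hfQ : f ∉ Q.under B) :
    IsRegularLocalRing (Localization.AtPrime Q) := by
  classical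
  obtain ⟨hfree, hfin⟩ := free_and_finite hN hf hT hF A hA
  have : IsNoetherianRing A := IsNoetherianRing.of_finite B A
  let p := Q.under B
  have : Q.LiesOver p := ⟨rfl⟩
  have := hreg p
  obtain ⟨s, hsp, hsc, hs⟩ := exists_generators p
  let G := s.image (algebraMap B A)
  refine isRegularLocalRing_of_generators (p := p) Q G (fun z hz => ?_)
    (le_trans (by exact_mod_cast Finset.card_image_le) hsc) fun x hx => ?_
  · obtain ⟨b, hb, rfl⟩ := Finset.mem_image.1 hz
    exact (Ideal.mem_of_liesOver Q p b).1 (hsp hb)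
  let J := p.map (algebraMap B A)
  obtain ⟨r, hr, hrx⟩ := exists_mul_mem_of_separable (p := p) (Q := Q) (J := J) le_rfl
    (Ideal.map_le_iff_le_comap.2 fun b hb => (Ideal.mem_of_liesOver Q p b).1 hb)
    ⟨T, by rw [← mono_one_zero T F]; exact mono_mem hN hf hT hF A hA (by simp)⟩ (coverPoly N α u f)
    (by
      convert J.zero_mem
      refine Subtype.ext ((coe_aeval A _ _).trans ?_)
      simp [hT, root'_pow])
    (by
      rw [Polynomial.map_sub, Polynomial.map_pow, map_X, map_C]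
      refine separable_X_pow_sub_C _ ?_ ?_
      · rw [← map_natCast (algebraMap B p.ResidueField)]
        exact (hNu.map _).ne_zero
      · rw [map_mul, map_pow]
        exact mul_ne_zero (u.isUnit.map _).ne_zero
          (pow_ne_zero _ fun h => hfQ (Ideal.algebraMap_residueField_eq_zero.1 h)))
    (fun a => by
      obtain ⟨n, P, hP⟩ := exists_pow_mul hN hf hT hF A hA (a : CoverLoc N α u f)
      refine ⟨f ^ n, fun h => hfQ (Ideal.IsPrime.mem_of_pow_mem inferInstance n h), P, ?_⟩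
      convert J.zero_mem
      refine Subtype.ext ?_
      show algebraMap B (CoverLoc N α u f) (f ^ n) * a - ((aeval _ P : A) : CoverLoc N α u f) = 0
      rw [coe_aeval A, hP, sub_self])
    x hx
  have hJ : ∀ y ∈ J, ∃ r ∉ Q, r * y ∈ Ideal.span (G : Set A) := by
    intro y hy
    induction hy using Submodule.span_induction with
    | mem y hy =>
      obtain ⟨b, hb, rfl⟩ := hy
      obtain ⟨r, hr, hrb⟩ := hs b hb
      refine ⟨algebraMap B A r, fun h => hr ((Ideal.mem_of_liesOver Q p r).2 h), ?_⟩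
      rw [← map_mul, Finset.coe_image, ← Ideal.map_span]
      exact Ideal.mem_map_of_mem _ hrb
    | zero => exact ⟨1, fun h => ‹Q.IsPrime›.ne_top ((Ideal.eq_top_iff_one _).2 h), by simp⟩
    | add y z _ _ hy hz =>
      obtain ⟨r₁, h₁, hy⟩ := hy
      obtain ⟨r₂, h₂, hz⟩ := hz
      refine ⟨r₁ * r₂, fun h => (Ideal.IsPrime.mem_or_mem ‹_› h).elim h₁ h₂, ?_⟩
      rw [mul_add]
      exact add_mem (by rw [mul_right_comm]; exact Ideal.mul_mem_right _ _ hy)
        (by rw [mul_assoc]; exact Ideal.mul_mem_left _ _ hz)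
    | smul c y _ hy =>
      obtain ⟨r, hr, hy⟩ := hy
      exact ⟨r, hr, by rw [smul_eq_mul, mul_left_comm]; exact Ideal.mul_mem_left _ _ hy⟩
  obtain ⟨r', hr', h'⟩ := hJ _ hrx
  exact ⟨r' * r, fun h => (Ideal.IsPrime.mem_or_mem ‹_› h).elim hr' hr, by rw [mul_assoc]; exact h'⟩

omit [IsNoetherianRing B] hreg in
theorem mono_dvd {i j x y : ℤ} (h : 0 ≤ (i - x) * α + (j - y) * N) (hπ : mono T F x y ∈ A)
    (ha : mono T F i j ∈ A) :
    (⟨_, ha⟩ : A) ∈ Ideal.span ({⟨_, hπ⟩} : Set A) := by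
  refine Ideal.mem_span_singleton.2 ⟨⟨_, mono_mem hN hf hT hF A hA h⟩, Subtype.ext ?_⟩
  show mono T F i j = mono T F x y * mono T F (i - x) (j - y)
  rw [mono_mul, add_sub_cancel, add_sub_cancel]

theorem isRegular_of_mem (hNu : IsUnit (N : B))
    (hD : ∀ (P : Ideal (B ⧸ Ideal.span {f})) [P.IsPrime], IsRegularLocalRing (Localization.AtPrime P))
    (hfQ : f ∈ Q.under B) : IsRegularLocalRing (Localization.AtPrime Q) := by
  classical
  obtain ⟨hfree, hfin⟩ := free_and_finite hN hf hT hF A hA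
  have : IsNoetherianRing A := IsNoetherianRing.of_finite B A
  let p := Q.under B
  have : Q.LiesOver p := ⟨rfl⟩
  obtain ⟨s, hsp, hsc, hs⟩ := exists_generators_quotient hf p hfQ hD
  obtain ⟨g, hgdef⟩ : ∃ g, g = Nat.gcd N α := ⟨_, rfl⟩
  have hg : 0 < g := hgdef ▸ Nat.gcd_pos_of_pos_left _ hN
  obtain ⟨m, hm⟩ : ∃ m, N = g * m := hgdef ▸ Nat.gcd_dvd_left N α
  obtain ⟨a, ha⟩ : ∃ a, α = g * a := hgdef ▸ Nat.gcd_dvd_right N α
  have hmpos : 0 < m := Nat.pos_of_ne_zero fun h => by simp [h] at hm; omega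
  have hcop : Nat.Coprime a m := by
    refine Nat.Coprime.symm ((Nat.coprime_iff_gcd_eq_one).2 ?_)
    have h := hgdef
    rw [hm, ha, Nat.gcd_mul_left] at h
    exact (Nat.eq_of_mul_eq_mul_left hg (by omega : g * Nat.gcd m a = g * 1))
  let x := Nat.gcdA a m
  let y := Nat.gcdB a m
  have hxy : (a : ℤ) * x + (m : ℤ) * y = 1 := by
    rw [← Nat.gcd_eq_gcd_ab, hcop.gcd_eq_one]; rfl
  have hwπ : x * α + y * N = g := by
    rw [hm, ha]; push_cast
    linear_combination (g : ℤ) * hxy
  have hπA : mono T F x y ∈ A := mono_mem hN hf hT hF A hA (by rw [hwπ]; positivity)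
  have hw0 : (m : ℤ) * α + (-(a : ℤ)) * N = 0 := by rw [hm, ha]; push_cast; ring
  have hwA : mono T F m (-(a : ℤ)) ∈ A := mono_mem hN hf hT hF A hA hw0.ge
  let π : A := ⟨_, hπA⟩
  let w : A := ⟨_, hwA⟩
  have hfmono : algebraMap B A f ∈ Ideal.span ({π} : Set A) := by
    have h01 : mono T F 0 1 ∈ A := mono_mem hN hf hT hF A hA (by simp)
    have e : algebraMap B A f = ⟨_, h01⟩ := Subtype.ext (hF.symm.trans (mono_zero_one T F).symm)
    rw [e]
    refine mono_dvd hN hf hT hF A hA ?_ hπA h01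
    have hgN : (g : ℤ) ≤ N := by exact_mod_cast hgdef ▸ Nat.le_of_dvd hN (Nat.gcd_dvd_left N α)
    linarith
  have hπQ : π ∈ Q := by
    refine Ideal.IsPrime.mem_of_pow_mem inferInstance N ?_
    have hle : algebraMap B A f ∈ Q := hfQ
    have hpow : mono T F (x * N) (y * N - 1) ∈ A := mono_mem hN hf hT hF A hA (by
      have h1 : (1 : ℤ) ≤ g := by exact_mod_cast hg
      have h2 : (0 : ℤ) ≤ ((g : ℤ) - 1) * N := mul_nonneg (by linarith) (by positivity)
      rw [show x * N * α + (y * N - 1) * N = ((g : ℤ) - 1) * N by rw [← hwπ]; ring]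
      exact h2)
    rw [show π ^ N = algebraMap B A f * ⟨_, hpow⟩ from Subtype.ext (by
      show mono T F x y ^ N = algebraMap B _ f * mono T F (x * N) (y * N - 1)
      rw [mono_pow, ← hF, ← mono_zero_one T F, mono_mul, zero_add, add_sub_cancel])]
    exact Q.mul_mem_right _ hle
  let G := insert π (s.image (algebraMap B A))
  refine isRegularLocalRing_of_generators (p := p) Q G (fun z hz => ?_) ?_ fun z hz => ?_
  · rcases Finset.mem_insert.1 hz with rfl | hz
    · exact hπQ
    · obtain ⟨b, hb, rfl⟩ := Finset.mem_image.1 hz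
      exact (Ideal.mem_of_liesOver Q p b).1 (hsp hb)
  · refine le_trans ?_ hsc
    have : G.card ≤ s.card + 1 := (Finset.card_insert_le _ _).trans (Nat.succ_le_succ Finset.card_image_le)
    exact_mod_cast this
  have hGspan : Ideal.span ({π} : Set A) ≤ Ideal.span (G : Set A) :=
    Ideal.span_mono (by simp [G])
  let J := Ideal.span ({π} : Set A) ⊔ p.map (algebraMap B A)
  refine exists_mul_mem_trans (J := J) (exists_mul_mem_sup (fun y hy => ⟨1, ?_, by rw [one_mul]; exact hGspan hy⟩)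
    (exists_mul_mem_map fun b hb => ?_)) ?_
  · exact fun h => ‹Q.IsPrime›.ne_top ((Ideal.eq_top_iff_one _).2 h)
  · obtain ⟨r, hr, hrb⟩ := hs b hb
    refine ⟨r, hr, ?_⟩
    have h := Ideal.mem_map_of_mem (algebraMap B A) hrb
    rw [Ideal.map_sup, Ideal.map_span, Ideal.map_span, Set.image_singleton] at h
    refine (sup_le (Ideal.span_mono ?_) ((Ideal.span_singleton_le_iff_mem _).2 (hGspan hfmono))) h
    rw [Finset.coe_insert, Finset.coe_image]
    exact Set.subset_insert _ _
  have hwg : w ^ g = algebraMap B A (u : B) := by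
    refine Subtype.ext ?_
    show mono T F m (-(a : ℤ)) ^ g = algebraMap B (CoverLoc N α u f) (u : B)
    rw [mono_pow]
    refine (F ^ α).isUnit.mul_left_injective ?_
    show mono T F (↑m * ↑g) (-↑a * ↑g) * ((F ^ α : (CoverLoc N α u f)ˣ) : CoverLoc N α u f) = _
    rw [Units.val_pow_eq_pow_val]
    conv_lhs => rw [← mono_zero_one T F, mono_pow, mono_mul]
    rw [show (↑m * ↑g + 0 * ↑α : ℤ) = 1 * (N : ℤ) by rw [hm]; push_cast; ring,
      show (-↑a * ↑g + 1 * ↑α : ℤ) = 0 * (N : ℤ) by rw [ha]; push_cast; ring, ← mono_pow, mono_one_zero, hT,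
      root'_pow, map_mul, map_pow, ← hF]
  refine exists_mul_mem_of_separable (p := p) (Q := Q) (J := J) le_sup_right
    (sup_le ((Ideal.span_singleton_le_iff_mem _).2 hπQ)
      (Ideal.map_le_iff_le_comap.2 fun b hb => (Ideal.mem_of_liesOver Q p b).1 hb))
    w (X ^ g - C (u : B)) ?_ ?_ (fun z => ?_) z hz
  · convert J.zero_mem
    simp [hwg]
  · rw [Polynomial.map_sub, Polynomial.map_pow, map_X, map_C]
    refine separable_X_pow_sub_C _ ?_ (u.isUnit.map _).ne_zero
    rw [← map_natCast (algebraMap B p.ResidueField)]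
    refine (IsUnit.map _ ?_).ne_zero
    rw [hm, Nat.cast_mul] at hNu
    exact isUnit_of_mul_isUnit_left hNu
  -- every element is a polynomial in `w` modulo `J`
  refine ⟨1, fun h => ‹Q.IsPrime›.ne_top ((Ideal.eq_top_iff_one _).2 ?_), ?_⟩
  · rw [← map_one (algebraMap B A)]; exact h
  rw [map_one, one_mul]
  suffices h : ∀ z' ∈ Submodule.span B (Set.range (gen T F)), ∀ hz' : z' ∈ A,
      ∃ P : B[X], (⟨z', hz'⟩ : A) - aeval w P ∈ J by
    exact h z (by rw [span_eq hN hf hT hF A hA]; exact z.2) z.2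
  intro z' hz'
  induction hz' using Submodule.span_induction with
  | mem v hv =>
    obtain ⟨i, rfl⟩ := hv
    intro hvA
    obtain ⟨k, hk⟩ : ∃ k : ℕ, k = (i : ℕ) * α / N := ⟨_, rfl⟩
    have hwt : (0 : ℤ) ≤ ((i : ℕ) : ℤ) * α + (-(k : ℤ)) * N := hk ▸ weight_gen (α := α) hN i
    have hNz : (N : ℤ) = g * m := by exact_mod_cast hm
    have hαz : (α : ℤ) = g * a := by exact_mod_cast ha
    have hfac : ((i : ℕ) : ℤ) * α + (-(k : ℤ)) * N = g * ((i : ℕ) * a - k * m) := by
      rw [hNz, hαz]; ring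
    rcases le_or_gt 1 (((i : ℕ) : ℤ) * a - k * m) with h1 | h1
    · refine ⟨0, ?_⟩
      rw [map_zero, sub_zero]
      refine le_sup_left (α := Ideal A) ?_
      have e : (⟨gen T F i, hvA⟩ : A) = ⟨mono T F (i : ℕ) (-(k : ℤ)), hk ▸ hvA⟩ := Subtype.ext (congrArg (fun n : ℕ => mono T F ((i : ℕ) : ℤ) (-(n : ℤ))) hk.symm)
      rw [e]
      refine mono_dvd hN hf hT hF A hA ?_ hπA _
      have h2 : (g : ℤ) * 1 ≤ g * ((i : ℕ) * a - k * m) := mul_le_mul_of_nonneg_left h1 (by positivity)
      linarith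
    · have h0 : ((i : ℕ) : ℤ) * a - k * m = 0 := by
        have : (0 : ℤ) ≤ (i : ℕ) * a - k * m := by
          rw [hfac] at hwt
          exact nonneg_of_mul_nonneg_right hwt (by exact_mod_cast hg)
        omega
      have h0' : (i : ℕ) * a = k * m := by exact_mod_cast (sub_eq_zero.1 h0)
      obtain ⟨l, hl⟩ : m ∣ (i : ℕ) := hcop.symm.dvd_of_dvd_mul_right ⟨k, by rw [h0']; ring⟩
      have hkl : k = a * l := by
        refine Nat.eq_of_mul_eq_mul_right hmpos ?_
        rw [← h0', hl]; ring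
      refine ⟨X ^ l, ?_⟩
      convert J.zero_mem
      rw [map_pow, aeval_X, sub_eq_zero]
      refine Subtype.ext ?_
      show gen T F i = mono T F m (-(a : ℤ)) ^ l
      rw [mono_pow, gen, ← hk, hl, hkl]
      push_cast
      congr 1
      ring
  | zero => exact fun h => ⟨0, by convert J.zero_mem; exact Subtype.ext (by simp)⟩
  | add v v' hv hv' ihv ihv' =>
    intro h
    have hvA : v ∈ A := (Subalgebra.mem_toSubmodule A).1 (span_eq hN hf hT hF A hA ▸ hv)
    have hv'A : v' ∈ A := (Subalgebra.mem_toSubmodule A).1 (span_eq hN hf hT hF A hA ▸ hv')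
    obtain ⟨P, hP⟩ := ihv hvA
    obtain ⟨P', hP'⟩ := ihv' hv'A
    refine ⟨P + P', ?_⟩
    convert J.add_mem hP hP' using 1
    rw [map_add]
    exact Subtype.ext (by simp; ring)
  | smul c v hv ihv =>
    intro h
    have hvA : v ∈ A := (Subalgebra.mem_toSubmodule A).1 (span_eq hN hf hT hF A hA ▸ hv)
    obtain ⟨P, hP⟩ := ihv hvA
    refine ⟨c • P, ?_⟩
    convert J.smul_of_tower_mem c hP using 1
    rw [map_smul]
    exact Subtype.ext (by simp [smul_sub])

theorem isRegular (hNu : IsUnit (N : B))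
    (hD : ∀ (P : Ideal (B ⧸ Ideal.span {f})) [P.IsPrime], IsRegularLocalRing (Localization.AtPrime P)) :
    IsRegularLocalRing (Localization.AtPrime Q) := by
  by_cases h : f ∈ Q.under B
  · exact isRegular_of_mem hN hf hT hF A hA hreg Q hNu hD h
  · exact isRegular_of_notMem hN hf hT hF A hA hreg Q hNu h

end Primes

end Groth.Agent.CyclicCoverLib
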