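import Groth.Agent.CyclicCoverLib.Cover

/-!
# The normalization of a cyclic cover
-/

set_option autoImplicit false
set_option maxHeartbeats 800000

universe u

open Polynomial

namespace Groth.Agent.CyclicCoverLib

/-- In a ring with integrally closed domains as localizations, integral elements of the localization away
from a nonzerodivisor lie in the ring. -/
theorem exists_eq_of_isIntegral {A K : Type u} [CommRing A] [CommRing K] [Algebra A K] {f : A}
    [IsLocalization.Away f K] (hf : f ∈ nonZeroDivisors A)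
    (hloc : ∀ (Q : Ideal A) [Q.IsPrime], IsRegularLocalRing (Localization.AtPrime Q)) {x : K} (hx : IsIntegral A x) :
    ∃ a : A, algebraMap A K a = x := by
  let D : Ideal A :=
    { carrier := {c | ∃ a : A, algebraMap A K a = c • x}
      zero_mem' := ⟨0, by rw [map_zero, zero_smul]⟩
      add_mem' := fun ⟨a, ha⟩ ⟨b, hb⟩ => ⟨a + b, by rw [map_add, ha, hb, add_smul]⟩
      smul_mem' := fun c z ⟨a, ha⟩ => ⟨c * a, by
        rw [map_mul, ha, smul_eq_mul, mul_smul, Algebra.smul_def c]⟩ }
  by_contra hne
  have hD : D ≠ ⊤ := fun h => hne <| by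
    obtain ⟨a, ha⟩ := h.ge (show (1 : A) ∈ (⊤ : Ideal A) from trivial)
    exact ⟨a, by rw [ha, one_smul]⟩
  obtain ⟨Q, hQ, hDQ⟩ := Ideal.exists_le_maximal D hD
  have := hloc Q
  let R := Localization.AtPrime Q
  have := Groth.Agent.CAlgH3.isDomain_of_isRegularLocalRing R
  have := Groth.Agent.CAlgH3.isIntegrallyClosed_of_regular R
  let L := FractionRing R
  have hfR : algebraMap A R f ≠ 0 := fun h => by
    obtain ⟨⟨c, hc⟩, hcf⟩ := (IsLocalization.map_eq_zero_iff Q.primeCompl R f).1 h
    exact hc (by rw [mem_nonZeroDivisors_iff_right.1 hf c hcf]; exact zero_mem _)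
  have hfL : IsUnit (algebraMap A L f) := by
    rw [IsScalarTower.algebraMap_apply A R L, isUnit_iff_ne_zero]
    exact fun h => hfR ((map_eq_zero_iff _ (IsFractionRing.injective R L)).1 h)
  let ψ : K →+* L := IsLocalization.Away.lift f hfL
  let ψa : K →ₐ[A] L := { ψ with commutes' := fun a => IsLocalization.Away.lift_eq f hfL a }
  have hint : IsIntegral R (ψ x) := (hx.map ψa).tower_top
  obtain ⟨z, hz⟩ := IsIntegrallyClosed.isIntegral_iff.1 hint
  obtain ⟨r, s, rfl⟩ := IsLocalization.exists_mk'_eq Q.primeCompl z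
  obtain ⟨n, a, ha⟩ := IsLocalization.Away.surj f x
  -- clear denominators
  have h1 : algebraMap A L (s * a) = algebraMap A L (r * f ^ n) := by
    have hψ := congrArg ψ ha
    rw [map_mul, map_pow, IsLocalization.Away.lift_eq, IsLocalization.Away.lift_eq] at hψ
    have hs := congrArg (algebraMap R L) (IsLocalization.mk'_spec R r s)
    rw [map_mul, hz, ← IsScalarTower.algebraMap_apply, ← IsScalarTower.algebraMap_apply] at hs
    rw [map_mul, map_mul, map_pow, ← hψ, ← hs]
    ring
  rw [IsScalarTower.algebraMap_apply A R L, IsScalarTower.algebraMap_apply A R L,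
    (IsFractionRing.injective R L).eq_iff, IsLocalization.eq_iff_exists Q.primeCompl] at h1
  obtain ⟨c, hc⟩ := h1
  refine (fun h => Q.primeCompl.mul_mem c.2 s.2 (hDQ h)) ⟨c * r, ?_⟩
  have hfK : IsUnit (algebraMap A K f ^ n) := (IsLocalization.Away.algebraMap_isUnit f).pow n
  refine hfK.mul_left_injective ?_
  show algebraMap A K (c * r) * algebraMap A K f ^ n = ((c : A) * s) • x * algebraMap A K f ^ n
  rw [smul_mul_assoc, ha, Algebra.smul_def, ← map_pow, ← map_mul, ← map_mul]
  exact congrArg (algebraMap A K) (by rw [mul_assoc (c : A) (s : A), hc]; ring)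

variable {B : Type u} [CommRing B] [IsDomain B] [IsNoetherianRing B] {N α : ℕ} {u : Bˣ} {f : B}

/-- The algebra `B[t^i f^(-⌊iα/N⌋)]` is finite, is the normalization, and is regular. -/
theorem finite_integralClosure_regular (hN : 0 < N) (hf : f ≠ 0) (hNu : IsUnit (N : B))
    (hreg : ∀ (P : Ideal B) [P.IsPrime], IsRegularLocalRing (Localization.AtPrime P))
    (hD : ∀ (P : Ideal (B ⧸ Ideal.span {f})) [P.IsPrime], IsRegularLocalRing (Localization.AtPrime P))
    (A : Subalgebra B (CoverLoc N α u f))
    (hA : A = Algebra.adjoin B (Set.range fun i : Fin N =>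
      root' ^ (i : ℕ) * IsLocalization.Away.invSelf (S := CoverLoc N α u f)
        (algebraMap B (AdjoinRoot (coverPoly N α u f)) f) ^ ((i : ℕ) * α / N))) :
    Module.Finite B A ∧ IsIntegralClosure A (AdjoinRoot (coverPoly N α u f)) (CoverLoc N α u f) ∧
      ∀ (Q : Ideal A) [Q.IsPrime], IsRegularLocalRing (Localization.AtPrime Q) := by
  obtain ⟨T, hT⟩ := isUnit_root' (N := N) (α := α) (u := u) (f := f) hN
  obtain ⟨F, hF⟩ := isUnit_f (N := N) (α := α) (u := u) (f := f)
  have hinv : ((F⁻¹ : (CoverLoc N α u f)ˣ) : CoverLoc N α u f) =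
      IsLocalization.Away.invSelf (algebraMap B (AdjoinRoot (coverPoly N α u f)) f) := by
    refine Units.inv_eq_of_mul_eq_one_right ?_
    rw [hF, IsScalarTower.algebraMap_apply B (AdjoinRoot (coverPoly N α u f)) (CoverLoc N α u f),
      IsLocalization.Away.mul_invSelf]
  have hA' : A = Algebra.adjoin B (Set.range (gen T F)) := by
    rw [hA]
    refine congrArg (fun g => Algebra.adjoin B (Set.range g)) (funext fun i => ?_)
    rw [← hinv, ← hT, gen, mono, zpow_neg, zpow_natCast, zpow_natCast, Units.val_mul,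
      ← inv_pow, Units.val_pow_eq_pow_val, Units.val_pow_eq_pow_val]
  obtain ⟨hfree, hfin⟩ := free_and_finite hN hf hT hF A hA'
  have hr : ∀ (Q : Ideal A) [Q.IsPrime], IsRegularLocalRing (Localization.AtPrime Q) :=
    fun Q _ => isRegular hN hf hT hF A hA' hreg Q hNu hD
  refine ⟨hfin, ?_, hr⟩
  let fA : A := algebraMap B A f
  have hloc : IsLocalization.Away fA (CoverLoc N α u f) := by
    refine IsLocalization.Away.mk fA ?_ (fun z => ?_) fun a b h => ⟨0, ?_⟩
    · show IsUnit (algebraMap A (CoverLoc N α u f) (algebraMap B A f))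
      rw [← IsScalarTower.algebraMap_apply]
      exact isUnit_f
    · obtain ⟨n, x, hx⟩ := IsLocalization.Away.surj (algebraMap B (AdjoinRoot (coverPoly N α u f)) f) z
      refine ⟨n, ⟨_, algebraMap_mem hN hf hT hF A hA' x⟩, ?_⟩
      show z * ((fA : A) : CoverLoc N α u f) ^ n = _
      rw [show ((fA : A) : CoverLoc N α u f) = algebraMap B _ f from rfl,
        IsScalarTower.algebraMap_apply B (AdjoinRoot (coverPoly N α u f)) (CoverLoc N α u f)]
      exact hx
    · rw [pow_zero, one_mul, one_mul]; exact Subtype.ext h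
  have hfnzd : fA ∈ nonZeroDivisors A := mem_nonZeroDivisors_iff_right.2 fun z hz => by
    refine Subtype.ext ((isUnit_f (N := N) (α := α) (u := u) (f := f)).mul_left_eq_zero.1 ?_)
    exact congrArg Subtype.val hz
  refine ⟨Subtype.coe_injective, fun {x} => ⟨fun hx => ?_, ?_⟩⟩
  · have : Module.Finite B (AdjoinRoot (coverPoly N α u f)) :=
      Module.Finite.of_basis (AdjoinRoot.powerBasis' (monic_X_pow_sub_C ((u : B) * f ^ α) hN.ne')).basis
    exact exists_eq_of_isIntegral hfnzd hr ((isIntegral_trans (R := B) x hx).tower_top)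
  · rintro ⟨a, rfl⟩
    exact ((Algebra.IsIntegral.isIntegral (R := B) a).map (IsScalarTower.toAlgHom B A _)).tower_top

end Groth.Agent.CyclicCoverLib
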