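import Mathlib.RingTheory.RegularLocalRing.Defs
import Mathlib.RingTheory.Ideal.KrullsHeightTheorem
import Mathlib.RingTheory.RingHom.Flat
import Mathlib.RingTheory.LocalRing.ResidueField.Ideal
import Mathlib.RingTheory.Localization.Integral
import Mathlib.FieldTheory.Separable
import Mathlib.FieldTheory.Minpoly.Field

/-!
# Regularity of covers unramified away from a set of equations
-/

set_option autoImplicit false

universe u

open Polynomial IsLocalRing

namespace Groth.Agent.CyclicCoverLib

variable {B A : Type u} [CommRing B] [CommRing A] [Algebra B A]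

theorem exists_mul_mem_of_separable {p : Ideal B} [p.IsPrime] {Q : Ideal A} [Q.IsPrime] [Q.LiesOver p]
    {J : Ideal A} (hJ : p.map (algebraMap B A) ≤ J) (hJQ : J ≤ Q) (w : A) (F : B[X])
    (hFw : aeval w F ∈ J) (hF : (F.map (algebraMap B p.ResidueField)).Separable)
    (hgen : ∀ a : A, ∃ s ∉ p, ∃ P : B[X], algebraMap B A s * a - aeval w P ∈ J) :
    ∀ x ∈ Q, ∃ r ∉ Q, r * x ∈ J := by
  intro x hx
  obtain ⟨s, hs, P, hP⟩ := hgen x
  let κ := p.ResidueField
  let k := Q.ResidueField
  let π := algebraMap A k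
  let _ : Algebra κ k := (Ideal.ResidueField.map p Q (algebraMap B A) (Q.over_def p)).toAlgebra
  have : IsScalarTower B κ k := IsScalarTower.of_algebraMap_eq fun b => by
    refine (IsScalarTower.algebraMap_apply B A k b).trans ?_
    exact (Ideal.ResidueField.map_algebraMap p Q (algebraMap B A) (Q.over_def p) b).symm
  let ι := algebraMap κ k
  have hι : ∀ R : B[X], π (aeval w R) = aeval (π w) (R.map (algebraMap B κ)) := fun R => by
    rw [aeval_map_algebraMap, aeval_algebraMap_apply]
  have hPQ : aeval (π w) (P.map (algebraMap B κ)) = 0 := by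
    rw [← hι, Ideal.algebraMap_residueField_eq_zero]
    have := Q.sub_mem (Q.mul_mem_left (algebraMap B A s) hx) (hJQ hP)
    rwa [sub_sub_cancel] at this
  have hFQ : aeval (π w) (F.map (algebraMap B κ)) = 0 := by
    rw [← hι, Ideal.algebraMap_residueField_eq_zero]
    exact hJQ hFw
  let M := minpoly κ (π w)
  obtain ⟨T, hT⟩ := minpoly.dvd κ (π w) hPQ
  obtain ⟨H, hH⟩ := minpoly.dvd κ (π w) hFQ
  have hHw : aeval (π w) H ≠ 0 := fun h => by
    obtain ⟨a, b, hab⟩ := (hH ▸ hF : (M * H).Separable).isCoprime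
    have := congrArg (aeval (π w)) hab
    rw [map_add, map_mul, map_mul, map_one, show aeval (π w) M = 0 from minpoly.aeval κ _, h,
      mul_zero, mul_zero, add_zero] at this
    exact zero_ne_one this
  have hlift : ∀ R : κ[X], ∃ (c : B) (R' : B[X]), c ∉ p ∧ R'.map (algebraMap B κ) = algebraMap B κ c • R := by
    intro R
    obtain ⟨b, hb, hbR⟩ := IsLocalization.integerNormalization_spec (nonZeroDivisors (B ⧸ p)) (S := κ) R
    obtain ⟨c, rfl⟩ := Ideal.Quotient.mk_surjective b
    obtain ⟨R', hR'⟩ := Polynomial.map_surjective (Ideal.Quotient.mk p) Ideal.Quotient.mk_surjective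
      (IsLocalization.integerNormalization (nonZeroDivisors (B ⧸ p)) R)
    refine ⟨c, R', fun hc => nonZeroDivisors.ne_zero hb (Ideal.Quotient.eq_zero_iff_mem.2 hc), ?_⟩
    rw [← hR', Polynomial.map_map] at hbR
    rw [IsScalarTower.algebraMap_eq B (B ⧸ p) κ]
    refine hbR.trans ?_
    rw [RingHom.comp_apply, algebraMap_smul]
    rfl
  obtain ⟨c, T', hc, hT'⟩ := hlift T
  obtain ⟨d, H', hd, hH'⟩ := hlift H
  refine ⟨algebraMap B A s * aeval w (C c * H'), fun hmem => ?_, ?_⟩
  · rcases Ideal.IsPrime.mem_or_mem ‹_› hmem with h | h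
    · exact hs ((Ideal.mem_of_liesOver Q p s).2 h)
    · rw [← Ideal.algebraMap_residueField_eq_zero] at h
      change π (aeval w (C c * H')) = 0 at h
      rw [hι, Polynomial.map_mul, map_C, map_mul, aeval_C, hH', map_smul, Algebra.smul_def] at h
      have hne : ∀ e : B, e ∉ p → algebraMap κ k (algebraMap B κ e) ≠ 0 := fun e he h' =>
        he (Ideal.algebraMap_residueField_eq_zero.1 ((map_eq_zero _).1 h'))
      exact hHw (((mul_eq_zero.1 h).resolve_left (hne c hc) |> mul_eq_zero.1).resolve_left (hne d hd))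
  · have hD : aeval w (P * (C c * H') - F * (C d * T')) ∈ J := by
      refine hJ ?_
      have h0 : (P * (C c * H') - F * (C d * T')).map (algebraMap B κ) = 0 := by
        simp only [Polynomial.map_sub, Polynomial.map_mul, map_C, hT', hH', hT, hH, smul_eq_C_mul]
        ring
      rw [aeval_eq_sum_range]
      refine sum_mem fun i _ => ?_
      rw [Algebra.smul_def]
      refine Ideal.mul_mem_right _ _ (Ideal.mem_map_of_mem _ ?_)
      exact Ideal.algebraMap_residueField_eq_zero.1 (by rw [← coeff_map, h0, coeff_zero])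
    rw [map_sub, map_mul (aeval w) P, map_mul (aeval w) F] at hD
    have h1 := add_mem hD (Ideal.mul_mem_right (aeval w (C d * T')) _ hFw)
    rw [sub_add_cancel] at h1
    have h2 := add_mem h1 (Ideal.mul_mem_right (aeval w (C c * H')) _ hP)
    convert h2 using 1
    ring

theorem exists_generators (p : Ideal B) [p.IsPrime] [IsRegularLocalRing (Localization.AtPrime p)] :
    ∃ s : Finset B, ((s : Set B) ⊆ p) ∧ (s.card : WithBot ℕ∞) ≤ ringKrullDim (Localization.AtPrime p) ∧
      ∀ x ∈ p, ∃ r ∉ p, r * x ∈ Ideal.span (s : Set B) := by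
  classical
  let R := Localization.AtPrime p
  obtain ⟨t, htc, hts⟩ := Submodule.FG.exists_span_set_encard_eq_spanFinrank (IsNoetherian.noetherian (maximalIdeal R))
  have htf : t.Finite := Set.finite_of_encard_eq_coe htc
  choose b u hbu using fun y : R => (IsLocalization.exists_mk'_eq p.primeCompl y)
  let s : Finset B := htf.toFinset.image b
  refine ⟨s, ?_, ?_, fun x hx => ?_⟩
  · intro z hz
    obtain ⟨y, hy, rfl⟩ := Finset.mem_image.1 hz
    have hy' : y ∈ maximalIdeal R := hts ▸ Submodule.subset_span (htf.mem_toFinset.1 hy)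
    rw [← hbu y] at hy'
    exact (IsLocalization.AtPrime.mk'_mem_maximal_iff _ p _ (u y)).1 hy'
  · refine le_of_le_of_eq ?_ IsRegularLocalRing.spanFinrank_maximalIdeal
    have h1 : s.card ≤ htf.toFinset.card := Finset.card_image_le
    rw [htf.encard_eq_coe_toFinset_card, Nat.cast_inj] at htc
    exact_mod_cast h1.trans htc.le
  · have h : algebraMap B R x ∈ (Ideal.span (s : Set B)).map (algebraMap B R) := by
      have hle : maximalIdeal R ≤ (Ideal.span (s : Set B)).map (algebraMap B R) := by
        rw [← hts, Submodule.span_le]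
        intro y hy
        rw [← hbu y, SetLike.mem_coe, IsLocalization.mk'_mem_map_algebraMap_iff]
        exact ⟨1, one_mem _, by rw [one_mul]; exact Ideal.subset_span (Finset.mem_image_of_mem b (htf.mem_toFinset.2 hy))⟩
      refine hle ?_
      rw [← Localization.AtPrime.map_eq_maximalIdeal]
      exact Ideal.mem_map_of_mem _ hx
    rw [IsLocalization.algebraMap_mem_map_algebraMap_iff p.primeCompl] at h
    exact h

theorem height_quotient_succ_le [IsDomain B] [IsNoetherianRing B] {f : B} (hf : f ≠ 0) (p : Ideal B) [p.IsPrime]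
    (hfp : f ∈ p) [(p.map (Ideal.Quotient.mk (Ideal.span {f}))).IsPrime] :
    (p.map (Ideal.Quotient.mk (Ideal.span {f}))).height + 1 ≤ p.height := by
  obtain ⟨l, hl, hlen⟩ := (p.map (Ideal.Quotient.mk (Ideal.span {f}))).exists_ltSeries_length_eq_height
  let l' := l.map (PrimeSpectrum.comap (Ideal.Quotient.mk (Ideal.span {f})))
    (RingHom.strictMono_comap_of_surjective Ideal.Quotient.mk_surjective)
  let z : PrimeSpectrum B := ⟨⊥, Ideal.isPrime_bot⟩
  have hz : z < l'.head := by
    refine lt_of_le_of_ne bot_le fun h => hf ?_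
    have : f ∈ l'.head.asIdeal := by
      show Ideal.Quotient.mk _ f ∈ l.head.asIdeal
      rw [Ideal.Quotient.eq_zero_iff_mem.2 (Ideal.mem_span_singleton_self f)]
      exact zero_mem _
    rw [← h] at this
    exact this
  have hlast : (l'.cons z hz).last = ⟨p, ‹_›⟩ := by
    rw [RelSeries.last_cons, LTSeries.last_map, hl]
    ext1
    exact (Ideal.comap_map_of_surjective _ Ideal.Quotient.mk_surjective p).trans (sup_eq_left.2 (by
      rw [← RingHom.ker_eq_comap_bot, Ideal.mk_ker, Ideal.span_le, Set.singleton_subset_iff]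
      exact hfp))
  rw [← hlen, (⟨p, ‹_›⟩ : PrimeSpectrum B).height_eq_orderHeight, ← hlast]
  refine le_trans (le_of_eq ?_) (Order.length_le_height le_rfl)
  simp [l']

/-- Generators of a prime modulo a hypersurface with regular quotient. -/
theorem exists_generators_quotient [IsDomain B] [IsNoetherianRing B] {f : B} (hf : f ≠ 0) (p : Ideal B)
    [p.IsPrime] (hfp : f ∈ p)
    (hD : ∀ (P : Ideal (B ⧸ Ideal.span {f})) [P.IsPrime], IsRegularLocalRing (Localization.AtPrime P)) :
    ∃ s : Finset B, ((s : Set B) ⊆ p) ∧ ((s.card + 1 : ℕ) : WithBot ℕ∞) ≤ ringKrullDim (Localization.AtPrime p) ∧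
      ∀ x ∈ p, ∃ r ∉ p, r * x ∈ Ideal.span (s : Set B) ⊔ Ideal.span {f} := by
  classical
  let q := Ideal.Quotient.mk (Ideal.span ({f} : Set B))
  have hker : RingHom.ker q ≤ p := by
    rw [Ideal.mk_ker, Ideal.span_le, Set.singleton_subset_iff]; exact hfp
  have hP : (p.map q).IsPrime := Ideal.map_isPrime_of_surjective Ideal.Quotient.mk_surjective hker
  have := hD (p.map q)
  obtain ⟨t, htp, htc, ht⟩ := exists_generators (p.map q)
  have hmem : ∀ z, q z ∈ p.map q ↔ z ∈ p := fun z => by
    rw [Ideal.mem_map_iff_of_surjective q Ideal.Quotient.mk_surjective]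
    refine ⟨fun ⟨y, hy, e⟩ => ?_, fun h => ⟨z, h, rfl⟩⟩
    have := p.sub_mem hy (hker (show y - z ∈ RingHom.ker q by rw [RingHom.mem_ker, map_sub, e, sub_self]))
    rwa [sub_sub_cancel] at this
  choose l hl using Ideal.Quotient.mk_surjective (I := Ideal.span ({f} : Set B))
  refine ⟨t.image l, ?_, ?_, fun x hx => ?_⟩
  · intro z hz
    obtain ⟨y, hy, rfl⟩ := Finset.mem_image.1 hz
    exact (hmem _).1 ((hl y).symm ▸ htp hy)
  · have h2 := height_quotient_succ_le hf p hfp
    rw [IsLocalization.AtPrime.ringKrullDim_eq_height p (Localization.AtPrime p)]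
    rw [IsLocalization.AtPrime.ringKrullDim_eq_height (p.map q) (Localization.AtPrime (p.map q))] at htc
    have h3 : (t.card : ℕ∞) ≤ (p.map q).height := by exact_mod_cast htc
    have h4 : ((t.image l).card + 1 : ℕ∞) ≤ p.height :=
      le_trans (add_le_add (le_trans (by exact_mod_cast Finset.card_image_le) h3) le_rfl) h2
    exact_mod_cast h4
  · obtain ⟨r, hr, hrx⟩ := ht (q x) ((hmem x).2 hx)
    obtain ⟨r', rfl⟩ := Ideal.Quotient.mk_surjective r
    refine ⟨r', fun h => hr ((hmem r').2 h), ?_⟩
    rw [← map_mul] at hrx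
    have h1 : (Ideal.span (↑(t.image l) : Set B)).map q = Ideal.span (t : Set (B ⧸ Ideal.span {f})) := by
      rw [Ideal.map_span, Finset.coe_image, Set.image_image]
      exact congrArg Ideal.span ((Set.image_congr fun y _ => hl y).trans (Set.image_id' _))
    rw [← h1, ← Ideal.mem_comap, Ideal.comap_map_of_surjective q Ideal.Quotient.mk_surjective,
      ← RingHom.ker_eq_comap_bot, Ideal.mk_ker] at hrx
    exact hrx

theorem isRegularLocalRing_of_generators [IsNoetherianRing B] [IsNoetherianRing A] [Module.Flat B A] {p : Ideal B} [p.IsPrime]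
    (Q : Ideal A) [Q.IsPrime] [Q.LiesOver p] (G : Finset A) (hG : (G : Set A) ⊆ Q)
    (hdim : (G.card : WithBot ℕ∞) ≤ ringKrullDim (Localization.AtPrime p))
    (hQ : ∀ x ∈ Q, ∃ r ∉ Q, r * x ∈ Ideal.span (G : Set A)) :
    IsRegularLocalRing (Localization.AtPrime Q) := by
  classical
  let R := Localization.AtPrime Q
  have : Algebra.HasGoingDown B A := inferInstance
  have hht : p.height ≤ Q.height := by
    rw [Ideal.height_eq_height_add_of_liesOver_of_hasGoingDown p Q]
    exact le_self_add
  refine IsRegularLocalRing.of_spanFinrank_maximalIdeal_le R ?_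
  have hm : maximalIdeal R = Submodule.span R (↑(G.image (algebraMap A R)) : Set R) := by
    rw [Finset.coe_image]
    refine le_antisymm ?_ (Submodule.span_le.2 ?_)
    · rw [← Localization.AtPrime.map_eq_maximalIdeal, Ideal.map_le_iff_le_comap]
      intro x hx
      obtain ⟨r, hr, hrx⟩ := hQ x hx
      rw [Ideal.mem_comap]
      have h : algebraMap A R x ∈ (Ideal.span (G : Set A)).map (algebraMap A R) :=
        (IsLocalization.algebraMap_mem_map_algebraMap_iff Q.primeCompl R _ _).2 ⟨r, hr, hrx⟩
      rwa [Ideal.map_span] at h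
    · rintro _ ⟨g, hg, rfl⟩
      rw [SetLike.mem_coe, ← Localization.AtPrime.map_eq_maximalIdeal]
      exact Ideal.mem_map_of_mem _ (hG hg)
  rw [hm, IsLocalization.AtPrime.ringKrullDim_eq_height Q R]
  rw [IsLocalization.AtPrime.ringKrullDim_eq_height p (Localization.AtPrime p)] at hdim
  refine le_trans ?_ (hdim.trans (by exact_mod_cast hht))
  have h1 : (Submodule.span R (↑(G.image (algebraMap A R)) : Set R)).spanFinrank ≤ G.card :=
    (Submodule.spanFinrank_span_le_ncard_of_finite (Finset.finite_toSet _)).trans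
      ((Set.ncard_coe_finset _).le.trans Finset.card_image_le)
  exact_mod_cast h1

end Groth.Agent.CyclicCoverLib
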